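import Cfsg.Agent.H84.TF8.Torus
import Cfsg.Agent.H84.SzLevi
import Cfsg.Agent.H84.GaussTwF4C
import Cfsg.Agent.H315.CY.TwFPair
import Cfsg.Agent.H315.CY.TwFRow
import Cfsg.Agent.H800.TF8.E1

/-!
# `²F₄(8)`: the facts on the parabolic subgroup in the model (S2452; helper84)
-/

set_option autoImplicit false
set_option linter.unusedSectionVars false

namespace Cfsg.Agent.H84.TF8

open Cfsg.Agent.SplitTwo Cfsg.Agent.SplitTwo.ZS Cfsg.Agent.TitsThree.RankTwoZ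
open Cfsg.Agent.KFacts.TwF4 Cfsg.Agent.KFacts.TwF4.Arc Cfsg.Agent.KFacts.TwF4.Inv
open Cfsg.Agent.H84.TwF4Two Cfsg.Agent.H84.GaussTwF4

universe u

section frame

variable {F : Type*} [Field F] {σ : F →+* F} {G : Type u} [Group G] {S : Full σ G} [Finite F]

theorem nn_not_mem : nn S ∉ Pa S := by
  intro h
  have := refl_Pa (k := 0) (by rw [mul_zero]; exact nn_refl) h le_rfl (by norm_num)
  omega

/-- **the facts on `P`** -/
theorem fr (hopp : ∀ x ∈ Bo S, x ∈ J S.XZ 9 16 → x = 1) :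
    Cfsg.Agent.H800.TF8.Fr (Pa S) (J S.XZ 1 8) (J S.XZ 1 7) (S.XZ 8) (LL S) (Zz S) (nn S) where
  mem _ := mem_Pa
  norm _ hp _ hu := UP_normal hp hu
  UPU := J_mono le_rfl (by norm_num)
  V1L := X8_le
  V1U := X_le_J (by norm_num) le_rfl
  split _ hu := U_split hu
  comm _ hz _ hl := Zz_comm hz hl
  n_sq := nn_sq
  n_comm _ hl := nn_LL hl
  n_inv _ hz := nn_Zz hz
  n_U u hu h := UP_inter hopp hu (by rwa [nn_inv, ← nn_inv, nn_inv, show nn S * u * nn S = nn S * u * (nn S)⁻¹ by rw [nn_inv]])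
  n_not := nn_not_mem
  cosets g := PGP g

/-- **the element of order 35** -/
theorem exists_y [Finite G] (hF : Nat.card F = 8) : ∃ y ∈ Pa S, orderOf y = 35 ∧ ∀ u ∈ J S.XZ 1 7, y * u = u * y → u = 1 := by
  have h7 : Nat.card Fˣ = 7 := by rw [Nat.card_units, hF]
  have hp7 : Fact (Nat.Prime 7) := ⟨by norm_num⟩
  have hp5 : Fact (Nat.Prime 5) := ⟨by norm_num⟩
  obtain ⟨d, hd⟩ : ∃ d : Fˣ, d ≠ 1 := by
    by_contra hcon
    push Not at hcon
    have : Nat.card Fˣ = 1 := Nat.card_eq_one_iff_unique.2 ⟨⟨fun a b => by rw [hcon a, hcon b]⟩, ⟨1⟩⟩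
    omega
  have hd7 : d ^ 7 = 1 := by
    rw [← h7]; exact pow_card_eq_one'
  obtain ⟨s, hs, hs5, hc⟩ := LL_cover (S := S) (k := 3) (by norm_num) (by rw [hF]; norm_num)
  have hs1 : s ≠ 1 := by
    rintro rfl
    have h1 : ∀ l ∈ LL S, l = 1 := by
      intro l hl
      obtain ⟨a, -, b, -, h⟩ := hc l hl
      rw [h]; group
    obtain ⟨a, ha, ha1⟩ := S.zsys8.exists_ne 8
    exact ha1 (h1 a (X8_le ha))
  have ho5 : orderOf s = 5 := orderOf_eq_prime hs5 hs1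
  have hz : S.h 1 d ∈ Zz S := ⟨d, rfl⟩
  have hz1 : S.h 1 d ≠ 1 := by
    intro h
    rw [← S.h_one] at h
    exact hd (S.h_inj _ _ _ _ h).2
  have ho7 : orderOf (S.h 1 d) = 7 := orderOf_eq_prime (by rw [h_pow', hd7, S.h_one]) hz1
  have hcomm : Commute s (S.h 1 d) := (h_comm_LL d hs).symm
  refine ⟨s * S.h 1 d, mul_mem (LL_le_Pa hs) (Zz_le_Pa hz), ?_, ?_⟩
  · rw [hcomm.orderOf_mul_eq_mul_orderOf_of_coprime (by rw [ho5, ho7]; norm_num), ho5, ho7]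
  · intro u hu h
    have h1 : (s * S.h 1 d) ^ 15 = S.h 1 d := by
      rw [hcomm.mul_pow, show (15 : ℕ) = 5 * 3 by norm_num, pow_mul, hs5, one_pow, one_mul, h_pow']
      congr 1
      calc d ^ (5 * 3) = (d ^ 7) ^ 2 * d := by rw [← pow_mul, ← pow_succ]
        _ = d := by rw [hd7, one_pow, one_mul]
    have h2 : Commute (s * S.h 1 d) u := h
    have h3 := h2.pow_left 15
    rw [h1] at h3
    exact fix17 hd hu h3

end frame

/-! ### the model -/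

section model

open Cfsg.Lie Cfsg.Agent.ChevalleyStructure.TwF4.Tables
open Cfsg.Agent.ChevalleyStructure.TwF4.Groups Cfsg.Agent.ChevalleyStructure.TwF4.BN
open Cfsg.Agent.ChevalleyStructure.TwF4.TwistedFix Cfsg.Agent.KFacts.TwF4.Inst
open Cfsg.Agent.Octagon.KSys Cfsg.Agent.Schreier.TwFFour
open Cfsg.Agent.Octagon.KPar

variable {K : Type} [Field K] [Fintype K] {m : ℕ} [CharP K 2] {φ : K →+* K}

theorem J_neg (hK : Fintype.card K = 2 ^ (2 * m + 1)) (hφ : Rln φ (2 ^ m)) {x : ↥(twistedF4 K (2 ^ m))}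
    (hx : x ∈ J (full hK hφ).XZ 9 16) : (x : GL chevF4.Idx K) ∈ GA K negB := by
  have h : J (full hK hφ).XZ 9 16 ≤ (GA K negB).subgroupOf (twistedF4 K (2 ^ m)) := by
    refine J_le fun k h1 h2 => ?_
    intro x hx
    have h3 : x ∈ XX K (2 ^ m) ((k : ℤ) : ZMod (2 * 8)) := hx
    rw [mem_XX] at h3
    have hr : 8 < rep ((k : ℤ) : ZMod (2 * 8)) := by
      interval_cases k <;> decide
    exact neg_le_neg' (cls_neg hr) h3
  exact h hx

theorem mem_B0_of_Bo (hK : Fintype.card K = 2 ^ (2 * m + 1)) (hφ : Rln φ (2 ^ m)) {x : ↥(twistedF4 K (2 ^ m))}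
    (hx : x ∈ Bo (full hK hφ)) : x ∈ B0 K (2 ^ m) := by
  obtain ⟨u, hu, t, ht, rfl⟩ := hx
  rw [Cfsg.Agent.H315.CY.J_eq hK hφ] at hu
  exact mul_mem (U0_le_B0 hu) (torus_norm hφ ht)

/-- **`B ∩ U⁻ = 1`** -/
theorem hopp (hK : Fintype.card K = 2 ^ (2 * m + 1)) (hφ : Rln φ (2 ^ m)) :
    ∀ x ∈ Bo (full hK hφ), x ∈ J (full hK hφ).XZ 9 16 → x = 1 := by
  intro x hx hx'
  exact Subtype.ext (borel_inf_negB _ (mem_B0_of_Bo hK hφ hx) (J_neg hK hφ hx'))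

/-- **the facts on the parabolic subgroup in the model** -/
theorem fr_model (hK : Fintype.card K = 2 ^ (2 * m + 1)) (hφ : Rln φ (2 ^ m)) :
    Cfsg.Agent.H800.TF8.Fr (Pa (full hK hφ)) (J (full hK hφ).XZ 1 8) (J (full hK hφ).XZ 1 7) ((full hK hφ).XZ 8)
      (LL (full hK hφ)) (Zz (full hK hφ)) (nn (full hK hφ)) := fr (hopp hK hφ)

/-- the Borel subgroup of the pair -/
theorem Bo_eq (hm : 1 ≤ m) (hK : Fintype.card K = 2 ^ (2 * m + 1)) (hφ : Rln φ (2 ^ m))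
    {Q : Cfsg.BNPair ↥(twistedF4 K (2 ^ m))} (hsp : FixBN.Split Q 2 (U0 K (2 ^ m))) : Q.B = Bo (full hK hφ) := by
  have hF : ∃ c : Kˣ, c ≠ 1 := by
    by_contra hcon
    push Not at hcon
    have h3 : Nat.card Kˣ = 1 := Nat.card_eq_one_iff_unique.2 ⟨⟨fun a b => by rw [hcon a, hcon b]⟩, ⟨1⟩⟩
    rw [Nat.card_units, Nat.card_eq_fintype_card, hK] at h3
    have h4 : 8 ≤ 2 ^ (2 * m + 1) := by
      calc 8 = 2 ^ 3 := by norm_num
        _ ≤ 2 ^ (2 * m + 1) := Nat.pow_le_pow_right (by norm_num) (by omega)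
    omega
  have hR : (full hK hφ).R.p = 2 := rfl
  rw [← Cfsg.Agent.H315.CY.J_eq hK hφ] at hsp
  ext g
  show g ∈ Q.B ↔ g ∈ Cfsg.Agent.H315.CY.UT (full hK hφ)
  rw [Cfsg.Agent.H315.CY.mem_UT_iff (full hK hφ) hF hR, ← hsp.normalizer_eq, Subgroup.mem_normalizer_iff]

/-- the parabolic subgroup of the pair -/
theorem Pa_par (hm : 1 ≤ m) (hK : Fintype.card K = 2 ^ (2 * m + 1)) (hφ : Rln φ (2 ^ m))
    {Q : Cfsg.BNPair ↥(twistedF4 K (2 ^ m))} (hsp : FixBN.Split Q 2 (U0 K (2 ^ m))) :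
    Q.parabolic {m2 hφ} = Pa (full hK hφ) := by
  rw [Pa_eq, ← Bo_eq hm hK hφ hsp]
  rfl

theorem V8_eq (hK : Fintype.card K = 2 ^ (2 * m + 1)) (hφ : Rln φ (2 ^ m)) : V8 K (2 ^ m) = J (full hK hφ).XZ 1 7 := by
  have he : (2 ^ m : ℕ) ≠ 0 := by positivity
  have hle : J (full hK hφ).XZ 1 7 ≤ V8 K (2 ^ m) := by
    refine J_le fun k h1 h2 => ?_
    intro x hx
    have h3 : x ∈ XX K (2 ^ m) ((k : ℤ) : ZMod (2 * 8)) := hx
    rw [mem_XX] at h3
    show (x : GL chevF4.Idx K) ∈ GA K (leB 7)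
    refine GA_mono ?_ h3
    intro r hr h
    interval_cases k <;> revert r <;> decide
  apply le_antisymm _ hle
  intro x hx
  have hxU : x ∈ J (full hK hφ).XZ 1 8 := by
    rw [Cfsg.Agent.H315.CY.J_eq hK hφ]
    exact pos_le_pos (le_pos 7) hx
  obtain ⟨v, hv, u', hu', rfl⟩ := U_split hxU
  have hv8 : v ∈ V8 K (2 ^ m) := by
    have := mul_mem hx (inv_mem (hle hu'))
    rwa [mul_inv_cancel_right] at this
  have h1 : m2 hφ * v * (m2 hφ)⁻¹ ∈ U0 K (2 ^ m) := n2_le7 (v : GL chevF4.Idx K) hv8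
  rw [← Cfsg.Agent.H315.CY.J_eq hK hφ] at h1
  have h2 : m2 hφ * v * (m2 hφ)⁻¹ ∈ (full hK hφ).XZ 0 := (full hK hφ).n2_refl.mem' hv (by norm_num)
  have h3 : m2 hφ * v * (m2 hφ)⁻¹ ∈ J (full hK hφ).XZ 9 16 := by
    have := XZ_per (full hK hφ) 0
    rw [zero_add] at this
    exact mem_J (by rw [this]; exact h2) (by norm_num) le_rfl
  have h4 := hopp hK hφ _ (U_le_Bo h1) h3
  have h5 : v = 1 := by
    have : v = (m2 hφ)⁻¹ * (m2 hφ * v * (m2 hφ)⁻¹) * m2 hφ := by group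
    rw [this, h4]; group
  rw [h5, one_mul]
  exact hu'

end model

end Cfsg.Agent.H84.TF8
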